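import Groth.Agent.TraceRes95.Basis
import Groth.Agent.Res31.Global

/-! The trace formula for residues over a complete field. -/

set_option autoImplicit false

namespace Groth.Agent.TraceRes95

open FunFld WithZero Groth.Agent.Res31 LinearMap
open scoped LaurentSeries

universe u v

variable {K L : Type u} {F E : Type v} [Field K] [Field L] [Field F] [Field E]
  [Algebra K F] [Algebra F E] [Algebra K E] [IsScalarTower K F E]
  [Algebra K L] [Algebra L E] [IsScalarTower K L E] [FiniteDimensional F E] [FiniteDimensional K L]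

theorem trace_resExp {P : Place K F} {Q : Place K E} {φ : F →ₐ[K] K⸨X⸩} {ψ : E →ₐ[L] L⸨X⸩}
    (h : Dat P Q φ ψ) (y : E) (x : F) :
    LocRes.locRes (ψ.restrictScalars K) y (algebraMap F E x) =
      LocRes.locRes φ (Algebra.trace F E y) x := by
  classical
  obtain ⟨s, _, b, hmem⟩ := exists_basis h
  symm
  set f := mulLeft K y with hf
  set g := mulLeft K (algebraMap F E x) with hg
  have hAd := adapted_ball (isExpansionAt_restrict h) y (algebraMap F E x)
  rw [← res_ball (isExpansionAt_restrict h)]
  have hφ := h.hφ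
  obtain ⟨q, hq⟩ := exists_proj (ball P 0)
  let p : s → (E →ₗ[K] F) := fun i => (b.coord i).restrictScalars K
  let ι : s → (F →ₗ[K] E) := fun i => ((LinearMap.id : F →ₗ[F] F).smulRight (b i)).restrictScalars K
  have hι : ∀ i (c : F), ι i c = c • b i := fun i c => rfl
  let π : Module.End K E := ∑ i, ι i ∘ₗ q ∘ₗ p i
  have hπz : ∀ z, π z = ∑ i, q (b.repr z i) • b i := fun z => by
    simp only [π, LinearMap.sum_apply, LinearMap.comp_apply, hι]
    rfl
  have hpπ : ∀ i z, p i (π z) = q (p i z) := fun i z => by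
    show b.repr (π z) i = q (b.repr z i)
    rw [hπz, b.repr_sum_self fun i => q (b.repr z i)]
  have hπι : ∀ i c, π (ι i c) = ι i (q c) := fun i c => by
    rw [hπz, hι, hι, map_smul, b.repr_self, Finset.sum_eq_single i (fun j _ hj => by
      simp [Finsupp.single_eq_of_ne hj]) (fun h => absurd (Finset.mem_univ i) h)]
    simp
  have hπ : IsProj (ball Q 0) π := ⟨fun z => (hmem _).2 fun i => (hpπ i z).symm ▸ hq.map_mem _, fun z hz => by
    rw [hπz]
    simp_rw [hq.map_id _ ((hmem z).1 hz _), b.sum_repr]⟩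
  have hgp : ∀ i z, p i (algebraMap F E x * z) = x * p i z := fun i z => by
    show b.repr _ i = x * b.repr z i
    rw [← Algebra.smul_def, map_smul, Finsupp.smul_apply, smul_eq_mul]
  have hgι : ∀ i c, algebraMap F E x * ι i c = ι i (x * c) := fun i c => by
    rw [hι, hι, ← Algebra.smul_def, smul_smul]
  have hfi : ∀ i c, p i (y * ι i c) = Algebra.leftMulMatrix b y i i * c := fun i c => by
    show b.repr _ i = _
    rw [hι, mul_smul_comm, map_smul, Finsupp.smul_apply, smul_eq_mul,
      Algebra.leftMulMatrix_eq_repr_mul, mul_comm]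
  have hT := hAd.finRank hπ
  have hid : ∑ i, ι i ∘ₗ p i = (1 : Module.End K E) := LinearMap.ext fun z => by
    simp only [LinearMap.sum_apply, LinearMap.comp_apply, hι]
    exact b.sum_repr z
  have hsum : tau π f g = ∑ i, ι i ∘ₗ (p i ∘ₗ tau π f g) := by
    conv_lhs => rw [← one_mul (tau π f g), ← hid, Finset.sum_mul]
    rfl
  rw [res_eq hAd hπ, hsum, tr_sum _ fun i _ => (hT.comp_left (p i)).comp_left (ι i),
    Algebra.trace_eq_matrix_trace b, Matrix.trace]
  have hlin : ∀ (t : Finset s), LocRes.locRes φ (∑ i ∈ t, Algebra.leftMulMatrix b y i i) x =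
      ∑ i ∈ t, LocRes.locRes φ (Algebra.leftMulMatrix b y i i) x := fun t => by
    simp only [LocRes.locRes, ← map_sum]
    congr 1
    show (φ _ * _).coeff (-1) = ∑ i ∈ t, (φ _ * _).coeff (-1)
    rw [map_sum, Finset.sum_mul, HahnSeries.coeff_sum]
  refine (hlin _).trans (Finset.sum_congr rfl fun i _ => ?_)
  rw [tr_comp_comm (ι i) _ (hT.comp_left (p i)), ← res_ball hφ, res_eq (adapted_ball hφ _ _) hq]
  congr 1
  refine LinearMap.ext fun c => ?_
  show q (_ * q (q (x * q c))) - q (x * q (q (_ * q c))) = p i (tau π f g (ι i c))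
  simp only [tau, hf, hg, LinearMap.sub_apply, Module.End.mul_apply, mulLeft_apply, map_sub, hπι, hgι,
    hpπ, hgp, hfi]

end Groth.Agent.TraceRes95
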