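import Groth.Agent.Res31.Local
import Mathlib.RingTheory.Trace.Basic

/-!
A finite extension of a complete discretely valued field: the valuation ring is free on
`λ_j t^i`, `i < e`.
-/

set_option autoImplicit false

namespace Groth.Agent.TraceRes95

open FunFld WithZero Groth.Agent.Res31 HahnSeries
open scoped LaurentSeries

universe u v

variable {K L : Type u} {F E : Type v} [Field K] [Field L] [Field F] [Field E]
  [Algebra K F] [Algebra F E] [Algebra K E] [IsScalarTower K F E]
  [Algebra K L] [Algebra L E] [IsScalarTower K L E]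

/-- Valuation data: `P` below `Q`, surjective expansion downstairs, `L`-expansion upstairs. -/
structure Dat (P : Place K F) (Q : Place K E) (φ : F →ₐ[K] K⸨X⸩) (ψ : E →ₐ[L] L⸨X⸩) : Prop where
  hφ : LocRes.IsExpansionAt P.1 φ
  hψ : LocRes.IsExpansionAt Q.1 ψ
  surj : Function.Surjective φ
  le_one : ∀ x : F, Q.1 (algebraMap F E x) ≤ 1 ↔ P.1 x ≤ 1

theorem toPlace {k M C : Type*} [Field k] [Field M] [Algebra k M] [Field C] [Algebra k C]
    (ν : Valuation M (WithZero (Multiplicative ℤ))) (φ : M →ₐ[k] C⸨X⸩) (h : LocRes.IsExpansionAt ν φ) :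
    (∀ c : k, ν (algebraMap k M c) ≤ 1) ∧ Function.Surjective ν := by
  refine ⟨fun c => ?_, fun y => ?_⟩
  · rw [← h.1, LocRes.map_algebraMap, ← exp_zero, ← neg_zero, Exp31.val_le_iff]
    intro n hn
    rw [HahnSeries.C_apply, HahnSeries.coeff_single_of_ne hn.ne]
  · rcases eq_or_ne y 0 with rfl | hy
    · exact ⟨0, map_zero ν⟩
    · obtain ⟨t, ht⟩ := h.2.2
      refine ⟨t ^ (-(log y)), ?_⟩
      rw [map_zpow₀, ht, ← exp_zsmul, smul_eq_mul, mul_neg_one, neg_neg, exp_log hy]

variable {P : Place K F} {Q : Place K E} {φ : F →ₐ[K] K⸨X⸩} {ψ : E →ₐ[L] L⸨X⸩}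

instance isScalarTower_laurent {A C : Type*} [CommRing A] [CommRing C] [Algebra A C] :
    @IsScalarTower A C C⸨X⸩ _ (HahnSeries.powerSeriesAlgebra ℤ C).toSMul (HahnSeries.powerSeriesAlgebra ℤ C).toSMul :=
  IsScalarTower.of_algebraMap_eq (R := A) (S := C) (A := C⸨X⸩) fun a => by
    rw [HahnSeries.algebraMap_apply', HahnSeries.algebraMap_apply', PowerSeries.algebraMap_apply,
      PowerSeries.algebraMap_apply, Algebra.algebraMap_self_apply]

/-- The `L`-expansion as a `K`-expansion. -/
theorem isExpansionAt_restrict (h : Dat P Q φ ψ) :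
    LocRes.IsExpansionAt Q.1 (ψ.restrictScalars K) := h.hψ

theorem coeff_algebraMap_mul (ψ : E →ₐ[L] L⸨X⸩) (l : L) (z : E) (n : ℤ) :
    (ψ (algebraMap L E l * z)).coeff n = l * (ψ z).coeff n := by
  rw [map_mul, LocRes.map_algebraMap, Algebra.algebraMap_self_apply, HahnSeries.C_apply,
    HahnSeries.coeff_single_zero_mul]

theorem exists_uniformizer (h : Dat P Q φ ψ) :
    ∃ (π : F) (e : ℕ), 0 < e ∧ φ π = single 1 1 ∧ P.1 π = exp (-1) ∧
      Q.1 (algebraMap F E π) = exp (-(e : ℤ)) := by
  obtain ⟨π, hπ⟩ := h.surj (single 1 1)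
  have hv : P.1 π = exp (-1) := by
    rw [← h.hφ.1, hπ]
    exact Exp31.val_eq_of_coeff (fun n hn => HahnSeries.coeff_single_of_ne hn.ne) (by simp)
  have hπ0 : π ≠ 0 := fun h0 => exp_ne_zero (hv.symm.trans (by rw [h0, map_zero]))
  have hw : Q.1 (algebraMap F E π) < 1 := by
    by_contra hge
    have h1 : Q.1 (algebraMap F E π⁻¹) ≤ 1 := by
      rw [map_inv₀, map_inv₀]; exact inv_le_one_of_one_le₀ (not_lt.1 hge)
    rw [h.le_one, map_inv₀, hv, ← exp_neg, ← exp_zero, exp_le_exp] at h1
    omega
  have hne : Q.1 (algebraMap F E π) ≠ 0 := by simpa using hπ0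
  have hlt : log (Q.1 (algebraMap F E π)) < 0 :=
    exp_lt_exp.1 (((exp_log hne).trans_lt hw).trans_eq exp_zero.symm)
  refine ⟨π, (-log (Q.1 (algebraMap F E π))).toNat, by omega, hπ, hv, ?_⟩
  · conv_lhs => rw [← exp_log hne]
    congr 1; omega

theorem mem_ball_algebraMap (h : Dat P Q φ ψ) {π : F} {e : ℕ} (hv : P.1 π = exp (-1))
    (hw : Q.1 (algebraMap F E π) = exp (-(e : ℤ))) {c : F} {n : ℤ} (hc : c ∈ ball P n) :
    algebraMap F E c ∈ ball Q (n * e) := by
  have hπ0 : π ≠ 0 := fun h0 => exp_ne_zero (hv.symm.trans (by rw [h0, map_zero]))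
  rw [mem_ball] at hc ⊢
  have h1 : Q.1 (algebraMap F E (π ^ n * c)) ≤ 1 := by
    rw [h.le_one, map_mul, map_zpow₀, hv, ← exp_zsmul, smul_eq_mul, mul_neg_one]
    refine (mul_le_mul' le_rfl hc).trans ?_
    rw [← exp_add, neg_add_cancel, exp_zero]
  have e1 : c = π ^ (-n) * (π ^ n * c) := by
    rw [← mul_assoc, ← zpow_add₀ hπ0, neg_add_cancel, zpow_zero, one_mul]
  rw [e1, map_mul, map_mul, map_zpow₀, map_zpow₀, hw, ← exp_zsmul, smul_eq_mul, neg_mul_neg]
  exact mul_le_of_le_one_right zero_le h1

/-- The constant coefficient of an integral element of the base. -/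
theorem coeff_zero_algebraMap (h : Dat P Q φ ψ) {c : F} (hc : P.1 c ≤ 1) :
    (ψ (algebraMap F E c)).coeff 0 = algebraMap K L ((φ c).coeff 0) := by
  obtain ⟨π, e, he, -, hv, hw⟩ := exists_uniformizer h
  set a := (φ c).coeff 0
  have hc' : c - algebraMap K F a ∈ ball P (-1) := (mem_ball_iff h.hφ).2 fun i hi => by
    rw [map_sub, HahnSeries.coeff_sub, LocRes.map_algebraMap, Algebra.algebraMap_self_apply]
    rcases eq_or_ne i 0 with rfl | hi0
    · simp [a]
    · rw [HahnSeries.C_apply, HahnSeries.coeff_single_of_ne hi0, sub_zero]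
      exact (mem_ball_iff h.hφ).1 (mem_ball_zero.2 hc) i (by omega)
  have h2 := (mem_ball_iff (isExpansionAt_restrict h)).1 (mem_ball_algebraMap h hv hw hc') 0 (by omega)
  rw [AlgHom.restrictScalars_apply, map_sub, map_sub, ← IsScalarTower.algebraMap_apply,
    IsScalarTower.algebraMap_apply K L E, LocRes.map_algebraMap, HahnSeries.coeff_sub] at h2
  rw [HahnSeries.C_apply, HahnSeries.coeff_single_same, sub_eq_zero] at h2
  exact h2

theorem exists_basis (h : Dat P Q φ ψ) [FiniteDimensional K L] :
    ∃ (ι : Type) (_ : Fintype ι) (b : Module.Basis ι F E),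
      ∀ z, z ∈ ball Q 0 ↔ ∀ i, b.repr z i ∈ ball P 0 := by
  classical
  obtain ⟨π, e, he, hπ, hv, hw⟩ := exists_uniformizer h
  have hπ0 : π ≠ 0 := fun h0 => exp_ne_zero (hv.symm.trans (by rw [h0, map_zero]))
  have hψ' := isExpansionAt_restrict h
  have mball : ∀ {z : E} {n : ℤ}, z ∈ ball Q n ↔ ∀ i : ℤ, i < -n → (ψ z).coeff i = 0 := fun {z n} =>
    mem_ball_iff hψ'
  obtain ⟨t, ht⟩ := h.hψ.2.2
  let bl := Module.finBasis K L
  let b : Fin e × Fin (Module.finrank K L) → E := fun p => algebraMap L E (bl p.2) * t ^ (p.1 : ℕ)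
  have htpow : ∀ m : ℕ, t ^ m ∈ ball Q (-(m : ℤ)) ∧ (ψ (t ^ m)).coeff (m : ℤ) ≠ 0 := fun m => by
    have hm : Q.1 (t ^ m) = exp (-(m : ℤ)) := by
      rw [map_pow, ht, ← exp_nsmul, nsmul_eq_mul, mul_neg_one]
    exact ⟨hm.le, Exp31.coeff_ne_zero_of_val_eq (by rw [h.hψ.1, hm])⟩
  have hbmem : ∀ p, b p ∈ ball Q (-((p.1 : ℕ) : ℤ)) := fun p => mball.2 fun i hi => by
    rw [coeff_algebraMap_mul, mball.1 (htpow p.1).1 i hi, mul_zero]
  have hsumK : ∀ (a : Fin e × Fin (Module.finrank K L) → K) (m : Fin e),
      ∑ j, algebraMap L E (algebraMap K L (a (m, j))) * b (m, j) =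
        algebraMap L E (∑ j, a (m, j) • bl j) * t ^ (m : ℕ) := fun a m => by
    rw [map_sum, Finset.sum_mul]
    refine Finset.sum_congr rfl fun j _ => ?_
    rw [Algebra.smul_def, map_mul, mul_assoc]
  -- one step of the expansion
  have hdigit : ∀ z : E, z ∈ ball Q 0 → ∀ m : ℕ, m ≤ e → ∃ a : Fin e × Fin (Module.finrank K L) → K,
      z - ∑ p, algebraMap L E (algebraMap K L (a p)) * b p ∈ ball Q (-(m : ℤ)) := by
    intro z hz m
    induction m with
    | zero => intro _; exact ⟨0, by simpa using hz⟩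
    | succ m ih =>
      intro hm
      obtain ⟨a, ha⟩ := ih (by omega)
      set r := z - ∑ p, algebraMap L E (algebraMap K L (a p)) * b p
      set l := (ψ r).coeff (m : ℤ) / (ψ (t ^ m)).coeff (m : ℤ) with hl
      refine ⟨a + fun p => if (p.1 : ℕ) = m then bl.repr l p.2 else 0, ?_⟩
      have e1 : ∑ p : Fin e × Fin (Module.finrank K L),
          algebraMap L E (algebraMap K L (if (p.1 : ℕ) = m then bl.repr l p.2 else 0)) * b p =
          algebraMap L E l * t ^ m := by
        rw [Fintype.sum_prod_type, Finset.sum_eq_single (⟨m, by omega⟩ : Fin e)]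
        · rw [hsumK (fun p => if (p.1 : ℕ) = m then bl.repr l p.2 else 0)]
          simp [bl.sum_repr]
        · intro i _ hi
          refine Finset.sum_eq_zero fun j _ => ?_
          rw [if_neg fun hh => hi (Fin.ext hh)]; simp
        · simp
      have e2 : z - ∑ p, algebraMap L E (algebraMap K L
          ((a + fun p : Fin e × Fin (Module.finrank K L) => if (p.1 : ℕ) = m then bl.repr l p.2 else 0) p)) * b p = r - algebraMap L E l * t ^ m := by
        simp only [Pi.add_apply, map_add, add_mul, Finset.sum_add_distrib, e1, r]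
        abel
      rw [e2]
      refine mball.2 fun i hi => ?_
      rw [map_sub, HahnSeries.coeff_sub, coeff_algebraMap_mul]
      rcases eq_or_ne i (m : ℤ) with rfl | hne
      · rw [hl, div_mul_cancel₀ _ (htpow m).2, sub_self]
      · rw [mball.1 ha i (by omega), mball.1 (htpow m).1 i (by omega), mul_zero, sub_zero]
  -- expansion of an integral element
  have hexp : ∀ z ∈ ball Q 0, ∃ c : Fin e × Fin (Module.finrank K L) → F,
      (∀ p, c p ∈ ball P 0) ∧ ∑ p, c p • b p = z := by
    intro z hz
    have step : ∀ y : E, ∃ (a : Fin e × Fin (Module.finrank K L) → K) (y' : E), y ∈ ball Q 0 →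
        y' ∈ ball Q 0 ∧ y = ∑ p, algebraMap L E (algebraMap K L (a p)) * b p + algebraMap F E π * y' := by
      intro y
      by_cases hy : y ∈ ball Q 0
      · obtain ⟨a, ha⟩ := hdigit y hy e le_rfl
        have hπE : algebraMap F E π ≠ 0 := by simpa using hπ0
        refine ⟨a, (algebraMap F E π)⁻¹ * (y - ∑ p, algebraMap L E (algebraMap K L (a p)) * b p),
          fun _ => ⟨?_, by field_simp; ring⟩⟩
        rw [mem_ball] at ha ⊢
        rw [map_mul, map_inv₀, hw, ← exp_neg, neg_neg]
        refine (mul_le_mul' le_rfl ha).trans ?_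
        rw [← exp_add, add_neg_cancel]
      · exact ⟨0, 0, fun h => absurd h hy⟩
    choose a nxt hnxt using step
    let zs : ℕ → E := fun n => nxt^[n] z
    have hzs : ∀ n, zs n ∈ ball Q 0 := fun n => by
      induction n with
      | zero => exact hz
      | succ n ih => simp only [zs, Function.iterate_succ_apply'] at ih ⊢; exact (hnxt _ ih).1
    choose c hc using fun p : Fin e × Fin (Module.finrank K L) =>
      h.surj ((PowerSeries.mk fun n => a (zs n) p : PowerSeries K) : K⸨X⸩)
    have hcoeff : ∀ p (i : ℤ), (φ (c p)).coeff i = if i < 0 then 0 else a (zs i.natAbs) p := fun p i => by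
      rw [hc p, PowerSeries.coeff_coe, PowerSeries.coeff_mk]
    have htail : ∀ p (N : ℕ), c p - ∑ n ∈ Finset.range N, algebraMap K F (a (zs n) p) * π ^ n ∈
        ball P (-(N : ℤ)) := fun p N => (mem_ball_iff h.hφ).2 fun i hi => by
      rw [map_sub, HahnSeries.coeff_sub, map_sum, HahnSeries.coeff_sum, hcoeff]
      simp only [map_mul, map_pow, hπ, LocRes.map_algebraMap, Algebra.algebraMap_self_apply, HahnSeries.single_pow,
        one_pow, HahnSeries.C_apply, HahnSeries.single_mul_single, zero_add, mul_one, nsmul_eq_mul]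
      split_ifs with hi0
      · rw [zero_sub, neg_eq_zero]
        exact Finset.sum_eq_zero fun n _ => HahnSeries.coeff_single_of_ne (by omega)
      · rw [Finset.sum_eq_single i.natAbs, show ((i.natAbs : ℤ)) = i by omega, HahnSeries.coeff_single_same, sub_self]
        · exact fun n _ hn => HahnSeries.coeff_single_of_ne (by omega)
        · intro hn; rw [Finset.mem_range] at hn; omega
    refine ⟨c, fun p => by simpa using htail p 0, ?_⟩
    have hpart : ∀ N : ℕ, z = ∑ p, (∑ n ∈ Finset.range N, algebraMap K F (a (zs n) p) * π ^ n) • b p +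
        algebraMap F E π ^ N * zs N := by
      intro N
      induction N with
      | zero => simp [zs]
      | succ N ih =>
        have e1 : zs N = ∑ p, algebraMap L E (algebraMap K L (a (zs N) p)) * b p +
            algebraMap F E π * zs (N + 1) := by
          simp only [zs, Function.iterate_succ_apply']; exact (hnxt _ (hzs N)).2
        calc z = _ := ih
          _ = _ := by
            rw [e1]
            simp only [Finset.sum_range_succ, map_add, add_mul, add_smul, Finset.sum_add_distrib, Algebra.smul_def, map_mul, map_pow,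
              ← IsScalarTower.algebraMap_apply, mul_add, Finset.mul_sum, pow_succ]
            simp only [mul_assoc, mul_comm, mul_left_comm, add_assoc]
    have hzero : ∀ i : ℤ, (ψ (∑ p, c p • b p - z)).coeff i = 0 := by
      intro i
      let N := i.natAbs + 1
      have hd : ∑ p, c p • b p - z = ∑ p, (c p - ∑ n ∈ Finset.range N, algebraMap K F (a (zs n) p) * π ^ n) • b p -
          algebraMap F E π ^ N * zs N := by
        conv_lhs => rw [hpart N]
        simp only [sub_smul, Finset.sum_sub_distrib]; abel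
      have hN : ∀ x, x ∈ ball Q 0 → algebraMap F E π ^ N * x ∈ ball Q (-((N * e : ℕ) : ℤ)) := fun x hx => by
        rw [mem_ball] at hx ⊢
        rw [map_mul, map_pow, hw, ← exp_nsmul, nsmul_eq_mul]
        refine (mul_le_of_le_one_right zero_le (by simpa using hx)).trans ?_
        rw [exp_le_exp]; push_cast; rw [mul_neg]
      have hmem : ∑ p, c p • b p - z ∈ ball Q (-((N * e : ℕ) : ℤ)) := by
        rw [hd]
        refine sub_mem (Submodule.sum_mem _ fun p _ => ?_) (hN _ (hzs N))
        have h1 := mem_ball_algebraMap h hv hw (htail p N)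
        rw [mem_ball] at h1 ⊢
        rw [Algebra.smul_def, map_mul]
        refine (mul_le_mul' h1 (le_trans (hbmem p) (exp_le_exp.2 (by omega : -((p.1 : ℕ) : ℤ) ≤ 0)))).trans ?_
        rw [exp_zero, mul_one, exp_le_exp]; push_cast; rw [neg_mul]
      refine mball.1 hmem i ?_
      have : N ≤ N * e := Nat.le_mul_of_pos_right N he
      omega
    have : ψ (∑ p, c p • b p - z) = 0 := HahnSeries.ext (funext fun i => by simpa using hzero i)
    exact sub_eq_zero.1 ((map_eq_zero ψ.toRingHom).1 this)
  -- independence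
  have hind : ∀ c : Fin e × Fin (Module.finrank K L) → F, (∀ p, c p ∈ ball P 0) →
      ∑ p, c p • b p = 0 → ∀ p, (φ (c p)).coeff 0 = 0 := by
    intro c hc h0
    suffices H : ∀ (m : ℕ) (hm : m < e), ∀ j, (φ (c (⟨m, hm⟩, j))).coeff 0 = 0 from fun p => H p.1 p.1.2 p.2
    intro m
    induction m using Nat.strong_induction_on with
    | _ m ih =>
      intro hm
      have hterm : ∀ p : Fin e × Fin (Module.finrank K L), (ψ (c p • b p)).coeff (m : ℤ) =
          if (p.1 : ℕ) = m then (algebraMap K L ((φ (c p)).coeff 0) * bl p.2) * (ψ (t ^ m)).coeff (m : ℤ) else 0 := by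
        rintro ⟨i, j⟩
        rw [Algebra.smul_def, map_mul]
        have hi : (i : ℕ) < e := i.2
        have hc0 : algebraMap F E (c (i, j)) ∈ ball Q 0 := by
          simpa using mem_ball_algebraMap h hv hw (hc (i, j))
        rcases lt_trichotomy (i : ℕ) m with hlt | heq | hgt
        · rw [if_neg hlt.ne]
          have hc1 : c (i, j) ∈ ball P (-1) := (mem_ball_iff h.hφ).2 fun n hn => by
            rcases eq_or_ne n 0 with rfl | hn0
            · exact ih i hlt hi j
            · exact (mem_ball_iff h.hφ).1 (hc (i, j)) n (by omega)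
          have hc2 := mball.1 (mem_ball_algebraMap h hv hw hc1)
          rw [coeff_mul_Icc (a := (e : ℤ)) (b := (i : ℤ)) (fun n hn => hc2 n (by simpa using hn))
            (fun n hn => mball.1 (hbmem (i, j)) n (by simpa using hn)), Finset.Icc_eq_empty (by omega),
            Finset.sum_empty]
        · rw [if_pos heq, coeff_mul_Icc (a := 0) (b := (m : ℤ)) (fun n hn => mball.1 hc0 n (by simpa using hn))
            (fun n hn => mball.1 (hbmem (i, j)) n (by simp [heq]; omega)), sub_self, Finset.Icc_self,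
            Finset.sum_singleton, sub_zero, coeff_zero_algebraMap h (mem_ball_zero.1 (hc (i, j))), mul_assoc]
          simp only [b, coeff_algebraMap_mul, heq]
        · rw [if_neg hgt.ne', coeff_mul_Icc (a := 0) (b := (i : ℤ)) (fun n hn => mball.1 hc0 n (by simpa using hn))
            (fun n hn => mball.1 (hbmem (i, j)) n (by simpa using hn)), Finset.Icc_eq_empty (by omega),
            Finset.sum_empty]
      have hs := congrArg (fun x => (ψ x).coeff (m : ℤ)) h0
      simp only [map_sum, HahnSeries.coeff_sum, hterm, map_zero, HahnSeries.coeff_zero] at hs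
      rw [Fintype.sum_prod_type, Finset.sum_eq_single (⟨m, hm⟩ : Fin e) (fun i _ hi =>
        Finset.sum_eq_zero fun j _ => if_neg fun hh => hi (Fin.ext hh)) (by simp)] at hs
      simp only [if_true, ← Finset.sum_mul] at hs
      have hz := (mul_eq_zero.1 hs).resolve_right (htpow m).2
      simp only [← Algebra.smul_def] at hz
      exact Fintype.linearIndependent_iff.1 bl.linearIndependent _ hz
  have hli : LinearIndependent F b := by
    rw [Fintype.linearIndependent_iff]
    intro g hg p
    by_contra hp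
    obtain ⟨p₀, -, hmax⟩ := (Finset.univ : Finset (Fin e × Fin (Module.finrank K L))).exists_max_image
      (fun q => P.1 (g q)) ⟨p, Finset.mem_univ p⟩
    have hg0 : g p₀ ≠ 0 := fun h0 => hp (by
      have := hmax p (Finset.mem_univ p)
      rw [h0, map_zero] at this
      exact (P.1.zero_iff).1 (le_zero_iff.1 this))
    have := hind (fun q => g q / g p₀) (fun q => mem_ball_zero.2 (by
      rw [map_div₀]; exact div_le_one_of_le₀ (hmax q (Finset.mem_univ q)) zero_le)) (by
        simp only [div_eq_inv_mul, mul_smul, ← Finset.smul_sum, hg, smul_zero]) p₀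
    simp [div_self hg0] at this
  have hspan : ⊤ ≤ Submodule.span F (Set.range b) := by
    intro z _
    obtain ⟨n, hn⟩ : ∃ n : ℕ, Q.1 z ≤ exp (n : ℤ) := by
      rcases eq_or_ne z 0 with rfl | hz
      · exact ⟨0, by simp⟩
      · refine ⟨(log (Q.1 z)).toNat, ?_⟩
        have h0 : Q.1 z ≠ 0 := (Valuation.ne_zero_iff _).2 hz
        calc Q.1 z = exp (log (Q.1 z)) := (exp_log h0).symm
          _ ≤ _ := exp_le_exp.2 (Int.self_le_toNat _)
    have hmem : π ^ n • z ∈ ball Q 0 := by
      rw [mem_ball_zero, Algebra.smul_def, map_mul, map_pow, map_pow, hw, ← exp_nsmul, nsmul_eq_mul]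
      refine (mul_le_mul' le_rfl hn).trans ?_
      rw [← exp_add, ← exp_zero, exp_le_exp]
      have : n ≤ n * e := Nat.le_mul_of_pos_right n he
      push_cast
      nlinarith
    obtain ⟨c, -, hc⟩ := hexp _ hmem
    have : z = (π ^ n)⁻¹ • ∑ p, c p • b p := by rw [hc, inv_smul_smul₀ (pow_ne_zero _ hπ0)]
    rw [this]
    exact Submodule.smul_mem _ _ (Submodule.sum_mem _ fun p _ =>
      Submodule.smul_mem _ _ (Submodule.subset_span ⟨p, rfl⟩))
  refine ⟨Fin e × Fin (Module.finrank K L), inferInstance, Module.Basis.mk hli hspan, fun z => ⟨fun hz p => ?_, fun hz => ?_⟩⟩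
  · obtain ⟨c, hc, hcz⟩ := hexp z hz
    have : (Module.Basis.mk hli hspan).repr z p = c p := by
      have e0 : ∑ i, c i • Module.Basis.mk hli hspan i = z := by simp only [Module.Basis.mk_apply, hcz]
      rw [← e0, Module.Basis.repr_sum_self]
    rw [this]; exact hc p
  · rw [← (Module.Basis.mk hli hspan).sum_repr z]
    refine Submodule.sum_mem _ fun p _ => ?_
    rw [Module.Basis.mk_apply, mem_ball_zero, Algebra.smul_def, map_mul]
    refine mul_le_one' ((h.le_one _).2 (mem_ball_zero.1 (hz p))) ?_
    refine le_trans (hbmem p) ?_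
    rw [← exp_zero, exp_le_exp]; omega

end Groth.Agent.TraceRes95
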